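import Groth.Prelude.Def_FinFr
import Groth.Agent.EtMVLib.PullSec
import Groth.Agent.EtMVLib.HpullApply
import Groth.Agent.EtMVLib.ExtTools
import Groth.Agent.EtMVLib.BigPull

/-!
# Pullback on cohomology with constant coefficients: composition, and endomorphisms acting
trivially on the etale site
-/

set_option autoImplicit false

universe u

open CategoryTheory CategoryTheory.Limits AlgebraicGeometry Opposite CategoryTheory.Abelian

namespace Groth.Agent.SGA4hFrob

set_option backward.isDefEq.respectTransparency.types false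

variable {X Y Z : Scheme.{u}}

theorem pullSec_comp' (k : X ⟶ Y) (t : Y ⟶ Z) (w : X ⟶ Z) (e : k ≫ t = w) (G : EtCoh.Ab Z) :
    (EtMVLib.pullSec t).app G ≫ (EtMVLib.pullSec k).app ((EtCoh.pull t).obj G) ≫
      (EtCore.gsec X).map (((EtCore.pullComp k t).symm ≪≫ EtCore.pullCongr e).hom.app G) =
      (EtMVLib.pullSec w).app G := by
  subst e
  refine ((Category.assoc _ _ _).symm.trans
    (congrArg (· ≫ _) (EtMVLib.pullSec_comp k t G).symm)).trans ((Category.assoc _ _ _).trans ?_)
  have : (EtCore.pullComp k t).hom.app G ≫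
      ((EtCore.pullComp k t).symm ≪≫ EtCore.pullCongr (rfl : k ≫ t = k ≫ t)).hom.app G = 𝟙 _ := by
    simp [EtCore.pullCongr]
  refine (congrArg (fun m => _ ≫ m) ((Functor.map_comp _ _ _).symm.trans
    (congrArg (EtCore.gsec X).map this))).trans ?_
  simp

/-- `pullConst` is compatible with composition. -/
theorem pullConst_comp (k : X ⟶ Y) (t : Y ⟶ Z) (w : X ⟶ Z) (e : k ≫ t = w) (M : Type) [AddCommGroup M] :
    (EtCore.pullConst k M).inv ≫ (EtCoh.pull k).map (EtCore.pullConst t M).inv ≫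
      ((EtCore.pullComp k t).symm ≪≫ EtCore.pullCongr e).hom.app (EtCoh.const Z M) =
      (EtCore.pullConst w M).inv := by
  apply ((EtCore.constAdj X).homEquiv _ _).injective
  have n1 := (EtMVLib.pullSec k).naturality (EtCore.pullConst t M).inv
  have hY : (EtCore.constAdj Y).unit.app (AddCommGrpCat.of (ULift.{u + 1} M)) ≫
      (EtCore.gsec Y).map (EtCore.pullConst t M).inv = _ :=
    ((EtCore.constAdj Y).homEquiv_unit _ _ (EtCore.pullConst t M).inv).symm.trans
      (EtMVLib.homEquiv_pullConst_inv t M)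
  set c := (EtCore.pullConst t M).inv
  set θ := ((EtCore.pullComp k t).symm ≪≫ EtCore.pullCongr e).hom.app (EtCoh.const Z M)
  refine ((EtCore.constAdj X).homEquiv_naturality_right _ _).trans ?_
  refine (eq_whisker (EtMVLib.homEquiv_pullConst_inv k M) _).trans ?_
  refine (whisker_eq _ (Functor.map_comp (EtCore.gsec X) _ _)).trans ?_
  refine ((Category.assoc _ _ _).trans (whisker_eq _
    ((Category.assoc _ _ _).symm.trans (eq_whisker n1.symm _)))).trans ?_
  refine ((whisker_eq _ (Category.assoc _ _ _)).trans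
    ((Category.assoc _ _ _).symm.trans (eq_whisker hY _))).trans ?_
  refine ((Category.assoc _ _ _).trans (whisker_eq _ (pullSec_comp' k t w e _))).trans ?_
  exact (EtMVLib.homEquiv_pullConst_inv w M).symm

theorem pullConst_comp_hom (k : X ⟶ Y) (t : Y ⟶ Z) (w : X ⟶ Z) (e : k ≫ t = w) (M : Type) [AddCommGroup M] :
    (EtCoh.pull k).map (EtCore.pullConst t M).hom ≫ (EtCore.pullConst k M).hom =
      ((EtCore.pullComp k t).symm ≪≫ EtCore.pullCongr e).hom.app (EtCoh.const Z M) ≫
        (EtCore.pullConst w M).hom := by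
  rw [← cancel_mono (EtCore.pullConst w M).inv]
  conv_rhs => rw [Category.assoc, Iso.hom_inv_id, Category.comp_id]
  rw [← pullConst_comp k t w e M, Category.assoc, Iso.hom_inv_id_assoc, ← Functor.map_comp_assoc,
    Iso.hom_inv_id]
  simp

variable (M : Type) [AddCommGroup M]

/-- pullback on cohomology with constant coefficients -/
noncomputable def hConst [Fact FinFr.PullExact.{u}] (f : X ⟶ Y) (n : ℕ) (x : EtCoh.H Y (EtCoh.const Y M) n) :
    EtCoh.H X (EtCoh.const X M) n :=
  (FinFr.HpullF f (EtCoh.const Y M) n x).comp (Ext.mk₀ (EtCore.pullConst f M).hom) (add_zero n)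

theorem hConst_eq [Fact FinFr.PullExact.{u}] [h : ∀ {A B : Scheme.{u}} (g : A ⟶ B), PreservesFiniteLimits (EtCoh.pull g)]
    (f : X ⟶ Y) (n : ℕ) (x : EtCoh.H Y (EtCoh.const Y M) n) :
    hConst M f n x = ((Ext.mk₀ (EtCore.pullConst f ℤ).inv).comp (x.mapExactFunctor (EtCoh.pull f))
      (zero_add n)).comp (Ext.mk₀ (EtCore.pullConst f M).hom) (add_zero n) := rfl

theorem hConst_comp [Fact FinFr.PullExact.{u}] (k : X ⟶ Y) (t : Y ⟶ Z) (w : X ⟶ Z) (e : k ≫ t = w) (n : ℕ)
    (x : EtCoh.H Z (EtCoh.const Z M) n) :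
    hConst M w n x = hConst M k n (hConst M t n x) := by
  haveI h : ∀ {A B : Scheme.{u}} (g : A ⟶ B), PreservesFiniteLimits (EtCoh.pull g) :=
    fun g => FinFr.pullExact_out g
  rw [hConst_eq, hConst_eq, hConst_eq, Ext.mapExactFunctor_comp, Ext.mapExactFunctor_comp,
    Ext.mapExactFunctor_mk₀, Ext.mapExactFunctor_mk₀]
  set θ := ((EtCore.pullComp k t).symm ≪≫ EtCore.pullCongr e).hom
  have hθ := EtMVLib.mapExactFunctor_natTrans (EtCoh.pull t ⋙ EtCoh.pull k) (EtCoh.pull w) θ x
  rw [EtMVLib.mapExactFunctor_functorComp] at hθ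
  simp only [Ext.comp_assoc_of_second_deg_zero, Ext.comp_assoc_of_third_deg_zero, Ext.mk₀_comp_mk₀,
    Ext.mk₀_comp_mk₀_assoc]
  rw [pullConst_comp_hom k t w e M, ← pullConst_comp k t w e ℤ, ← Ext.mk₀_comp_mk₀ _ (EtCore.pullConst w M).hom,
    ← Ext.comp_assoc_of_third_deg_zero ((x.mapExactFunctor (EtCoh.pull t)).mapExactFunctor (EtCoh.pull k)),
    hθ, Ext.comp_assoc_of_third_deg_zero, Ext.mk₀_comp_mk₀_assoc, Category.assoc]

/-- an iso `bc f ≅ 𝟭` gives an iso `f_* ≅ 𝟭` -/
noncomputable def pushIdIso (f : X ⟶ X) (e : EtCoh.bc f ≅ 𝟭 X.Etale) : EtCoh.push f ≅ 𝟭 (EtCoh.Ab X) :=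
  NatIso.ofComponents
    (fun G => (fullyFaithfulSheafToPresheaf X.smallEtaleTopology AddCommGrpCat.{u + 1}).preimageIso
      (Functor.isoWhiskerRight (NatIso.op e.symm) G.obj))
    (fun {G G'} φ => by
      apply Sheaf.hom_ext
      ext U : 2
      change φ.hom.app _ ≫ G'.obj.map _ = G.obj.map _ ≫ φ.hom.app U
      exact (φ.hom.naturality _).symm)

theorem hConst_eq_id [Fact FinFr.PullExact.{u}] (f : X ⟶ X) (e : EtCoh.bc f ≅ 𝟭 X.Etale) (n : ℕ)
    (x : EtCoh.H X (EtCoh.const X M) n) : hConst M f n x = x := by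
  haveI h : ∀ {A B : Scheme.{u}} (g : A ⟶ B), PreservesFiniteLimits (EtCoh.pull g) :=
    fun g => FinFr.pullExact_out g
  let a := (Adjunction.id (C := EtCoh.Ab X)).ofNatIsoRight (pushIdIso f e).symm
  let η : EtCoh.pull f ≅ 𝟭 (EtCoh.Ab X) := Adjunction.leftAdjointUniq (EtCoh.pullPushAdj f) a
  have key : ∀ G : EtCoh.Ab X, (EtMVLib.pullSec f).app G ≫ (EtCore.gsec X).map (η.hom.app G) = 𝟙 _ := by
    intro G
    rw [EtMVLib.pullSec_app, Category.assoc]
    have n1 := (EtCore.pushGsecIso f).hom.naturality (η.hom.app G)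
    simp only [Functor.comp_map] at n1
    rw [← n1, ← Category.assoc, ← Functor.map_comp,
      Adjunction.unit_leftAdjointUniq_hom_app (EtCoh.pullPushAdj f) a G]
    simp only [a, Adjunction.ofNatIsoRight_unit]
    change G.obj.map (Quiver.Hom.op _) ≫ G.obj.map (Quiver.Hom.op _) = 𝟙 _
    rw [← G.obj.map_comp, ← op_comp]
    refine (congrArg (fun m => G.obj.map (Quiver.Hom.op m))
      ((EtCore.topIsTerminal X).hom_ext _ (𝟙 _))).trans ?_
    simp
  have hM : ∀ (M : Type) [AddCommGroup M],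
      (EtCore.pullConst f M).inv ≫ η.hom.app (EtCoh.const X M) = 𝟙 _ := by
    intro M _
    apply ((EtCore.constAdj X).homEquiv _ _).injective
    refine ((EtCore.constAdj X).homEquiv_naturality_right _ _).trans ?_
    rw [EtMVLib.homEquiv_pullConst_inv, Category.assoc, key]
    exact (Category.comp_id _).trans ((EtCore.constAdj X).homEquiv_id _).symm
  have hM' : (EtCore.pullConst f M).hom = η.hom.app (EtCoh.const X M) := by
    rw [← cancel_epi (EtCore.pullConst f M).inv, Iso.inv_hom_id, hM M]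
  rw [hConst_eq, hM', Ext.comp_assoc_of_third_deg_zero,
    EtMVLib.mapExactFunctor_natTrans _ _ η.hom x, EtMVLib.mapExactFunctor_id,
    ← Ext.comp_assoc_of_second_deg_zero, Ext.mk₀_comp_mk₀, hM ℤ, Ext.mk₀_id_comp]

end Groth.Agent.SGA4hFrob
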