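import Groth.Agent.SGA4hFrob.Via
import Groth.Agent.SGA4hSkyscraper.Basic
import Groth.Agent.EtFound.FiniteStalk
import Groth.Agent.EtFound.SepClosedField
import Groth.Agent.EtFound.PullGerm
import Groth.Agent.EtFound.NoethACC
import Groth.Agent.S14451
import Groth.Agent.S0071
import Groth.Agent.S0101

/-!
# Cohomology of schemes finite over an algebraically closed field
-/

set_option autoImplicit false

universe u

open CategoryTheory CategoryTheory.Limits AlgebraicGeometry Opposite CategoryTheory.Abelian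

namespace Groth.Agent.SGA4hFrob

set_option backward.isDefEq.respectTransparency.types false

variable {X : Scheme.{u}} {K : Type u} [Field K] [IsAlgClosed K]

theorem subsingleton_H_finiteOverField (b : X ⟶ Spec (CommRingCat.of K)) [IsFinite b] (F : EtCoh.Ab X)
    (q : ℕ) (hq : 0 < q) : Subsingleton (EtCoh.H X F q) := by
  have := S0101.result b
  have hb := S14451.result b F (fun i hi => S0071.result _ _ i hi) q
  haveI := SGA4hSkyscraper.subsingleton_H_field K ((EtCoh.push b).obj F) q hq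
  exact hb.2.subsingleton

/-- the point of `top X` over a geometric point -/
noncomputable def topPt (ξ : Spec (CommRingCat.of K) ⟶ X) :
    (Scheme.pointSmallEtale ξ).fiber.obj (EtCoh.top X) :=
  CategoryTheory.Over.homMk ξ (Category.comp_id _)

theorem topPt_unique (ξ : Spec (CommRingCat.of K) ⟶ X)
    (t : (Scheme.pointSmallEtale ξ).fiber.obj (EtCoh.top X)) : t = topPt ξ :=
  CategoryTheory.Over.OverMorphism.ext ((Category.comp_id _).symm.trans (CategoryTheory.Over.w t))

/-- the germ of a global section at a geometric point -/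
noncomputable def germTop (F : EtCoh.Ab X) (ξ : Spec (CommRingCat.of K) ⟶ X) :
    (EtCore.gsec X).obj F ⟶ (EtCoh.stalk ξ).obj F :=
  (Scheme.pointSmallEtale ξ).toPresheafFiber _ (topPt ξ) F.obj

theorem germTop_bijective (b : X ⟶ Spec (CommRingCat.of K)) [IsFinite b] (F : EtCoh.Ab X) :
    Function.Bijective fun (x : (EtCore.gsec X).obj F)
      (ξ : {ξ : Spec (CommRingCat.of K) ⟶ X // ξ ≫ b = 𝟙 _}) => germTop F ξ.1 x := by
  have h1 : Function.Bijective (((EtCore.pushGsecIso b).app F).inv) :=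
    ((EtCore.pushGsecIso b).app F).symm.addCommGroupIsoToAddEquiv.bijective
  have h2 := EtFound.toPresheafFiber_idTop_bijective (k := K) ((EtCoh.push b).obj F).obj
  have h3 := EtFound.pushStalkAt_bijective b (η := 𝟙 _) F
  refine Eq.mp (congrArg Function.Bijective (funext fun x => funext fun ξ => ?_)) (h3.comp (h2.comp h1))
  simp only [Function.comp_apply]
  refine (EtFound.pushStalkAt_germ_apply b ξ.2 F _ _).trans ?_
  refine ((Scheme.pointSmallEtale ξ.1).toPresheafFiber_w_apply _ _ F.obj x).trans ?_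
  rw [topPt_unique ξ.1 ((Scheme.pointSmallEtale ξ.1).fiber.map _ _)]
  rfl

/-- global sections of the inverse image at a point, as the stalk -/
theorem germ_pullSec (F : EtCoh.Ab X) (s : Spec (CommRingCat.of K) ⟶ X) :
    (EtMVLib.pullSec s).app F ≫ (EtFound.sectTopIso K AddCommGrpCat.{u + 1}).hom.app ((EtCoh.pull s).obj F) =
      germTop F (𝟙 _ ≫ s) ≫ (EtFound.sheafFiberPullIso s (𝟙 _)).inv.app F := by
  have h := EtFound.sheafFiberPullIso_germ s (𝟙 _) F (EtCoh.top X)
    ((Scheme.pointSmallEtale (𝟙 (Spec (CommRingCat.of K)))).fiber.map (EtCore.bcTopIso s).inv (EtFound.idTop K))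
  rw [topPt_unique _ (EtFound.bcFiberEquiv s _ _ _)] at h
  refine Eq.trans ?_ h.symm
  refine (Category.assoc _ _ _).trans (congrArg (_ ≫ ·) ?_)
  exact (Scheme.pointSmallEtale (𝟙 (Spec (CommRingCat.of K)))).toPresheafFiber_w (EtCore.bcTopIso s).inv
    (EtFound.idTop K) ((EtCoh.pull s).obj F).obj

/-- the stalk at a section, as global sections of the inverse image -/
theorem exists_stalk_iso (F : EtCoh.Ab X) (s s' : Spec (CommRingCat.of K) ⟶ X) (h : 𝟙 _ ≫ s = s') :
    ∃ J : (EtCoh.stalk s').obj F ⟶ (EtCore.gsec _).obj ((EtCoh.pull s).obj F),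
      IsIso J ∧ germTop F s' ≫ J = (EtMVLib.pullSec s).app F := by
  subst h
  refine ⟨(EtFound.sheafFiberPullIso s (𝟙 _)).inv.app F ≫
    (EtFound.sectTopIso K AddCommGrpCat.{u + 1}).inv.app ((EtCoh.pull s).obj F), inferInstance, ?_⟩
  rw [← cancel_mono ((EtFound.sectTopIso K AddCommGrpCat.{u + 1}).hom.app ((EtCoh.pull s).obj F)),
    germ_pullSec]
  simp only [Category.assoc, Iso.inv_hom_id_app]
  exact congrArg (_ ≫ ·) (Category.comp_id _)

theorem pullSec_bijective (b : X ⟶ Spec (CommRingCat.of K)) [IsFinite b] (F : EtCoh.Ab X) :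
    Function.Bijective fun (x : (EtCore.gsec X).obj F)
      (s : {s : Spec (CommRingCat.of K) ⟶ X // s ≫ b = 𝟙 _}) => (EtMVLib.pullSec s.1).app F x := by
  have h1 := germTop_bijective b F
  choose J hJ hJ' using fun s : {s : Spec (CommRingCat.of K) ⟶ X // s ≫ b = 𝟙 _} =>
    exists_stalk_iso F s.1 s.1 (Category.id_comp _)
  have h2 : ∀ s, Function.Bijective (J s) := fun s => (ConcreteCategory.isIso_iff_bijective _).1 (hJ s)
  refine Eq.mp (congrArg Function.Bijective (funext fun x => funext fun s => ?_))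
    ((Function.Bijective.piMap h2).comp h1)
  exact (ConcreteCategory.comp_apply _ _ x).symm.trans (ConcreteCategory.congr_hom (hJ' s) x)

/-- degree zero cohomology as global sections -/
noncomputable def secOfH (F : EtCoh.Ab X) (z : EtCoh.H X F 0) : (EtCore.gsec X).obj F :=
  (EtCore.constAdj X).homEquiv _ _ (Ext.homEquiv₀ z) ⟨1⟩

theorem secOfH_bijective (F : EtCoh.Ab X) : Function.Bijective (secOfH F) := by
  refine Function.Bijective.comp
    (g := fun f : AddCommGrpCat.of (ULift.{u + 1} ℤ) ⟶ (EtCore.gsec X).obj F => f ⟨1⟩)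
    ⟨fun f g h => ?_, fun y => ?_⟩
    (((EtCore.constAdj X).homEquiv _ _).bijective.comp Ext.homEquiv₀.bijective)
  · refine AddCommGrpCat.hom_ext (AddMonoidHom.ext fun ⟨n⟩ => ?_)
    have hn : (⟨n⟩ : ULift.{u + 1} ℤ) = n • ⟨1⟩ := ULift.ext _ _ (by simp)
    rw [hn, map_zsmul, map_zsmul]
    exact congrArg (n • ·) h
  · exact ⟨AddCommGrpCat.ofHom ((zmultiplesHom _ y).comp (AddEquiv.ulift (α := ℤ)).toAddMonoidHom), one_zsmul y⟩

theorem secOfH_HpullF [Fact FinFr.PullExact.{u}] {W : Scheme.{u}} (f : W ⟶ X) (F : EtCoh.Ab X)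
    (z : EtCoh.H X F 0) :
    secOfH _ (FinFr.HpullF f F 0 z) = (EtMVLib.pullSec f).app F (secOfH F z) := by
  have := FinFr.pullExact_out f
  obtain ⟨φ, rfl⟩ := (Ext.mk₀_bijective _ _).2 z
  have e : FinFr.HpullF f F 0 (Ext.mk₀ φ) = Ext.mk₀ ((EtCore.pullConst f ℤ).inv ≫ (EtCoh.pull f).map φ) := by
    rw [FinFr.HpullF, EtMVLib.Hpull_apply, Ext.mapExactFunctor_mk₀, Ext.mk₀_comp_mk₀]
  have key : (EtCore.constAdj W).homEquiv _ _ ((EtCore.pullConst f ℤ).inv ≫ (EtCoh.pull f).map φ) =
      (EtCore.constAdj X).homEquiv _ _ φ ≫ (EtMVLib.pullSec f).app F := by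
    have n1 := (EtMVLib.pullSec f).naturality φ
    simp only [Functor.comp_map] at n1
    rw [Adjunction.homEquiv_naturality_right, EtMVLib.homEquiv_pullConst_inv, Category.assoc, ← n1,
      Adjunction.homEquiv_unit, Category.assoc]
  rw [e]
  simp only [secOfH, Ext.homEquiv₀, Equiv.ofBijective_symm_apply_apply, Ext.addEquiv₀, key]
  rfl

theorem bijective_of_bijective_pi {A : Type*} {ι : Type*} {B C : ι → Type*} (φ : ∀ i, B i → C i)
    (hφ : ∀ i, Function.Bijective (φ i)) (f : A → ∀ i, B i)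
    (h : Function.Bijective fun a i => φ i (f a i)) : Function.Bijective f :=
  ((Function.Bijective.piMap hφ).of_comp_iff' f).1 h

theorem HpullF_sections_bijective [Fact FinFr.PullExact.{u}] (b : X ⟶ Spec (CommRingCat.of K)) [IsFinite b]
    (F : EtCoh.Ab X) :
    Function.Bijective fun (z : EtCoh.H X F 0)
      (s : {s : Spec (CommRingCat.of K) ⟶ X // s ≫ b = 𝟙 _}) => FinFr.HpullF s.1 F 0 z := by
  have h := (pullSec_bijective b F).comp (secOfH_bijective F)
  refine bijective_of_bijective_pi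
    (B := fun s : {s : Spec (CommRingCat.of K) ⟶ X // s ≫ b = 𝟙 _} =>
      EtCoh.H (Spec (CommRingCat.of K)) ((EtCoh.pull s.1).obj F) 0)
    (C := fun s : {s : Spec (CommRingCat.of K) ⟶ X // s ≫ b = 𝟙 _} =>
      (EtCore.gsec (Spec (CommRingCat.of K))).obj ((EtCoh.pull s.1).obj F))
    (fun s => secOfH ((EtCoh.pull s.1).obj F)) (fun s => secOfH_bijective ((EtCoh.pull s.1).obj F)) _ ?_
  exact Eq.mp (congrArg Function.Bijective
    (funext fun z => funext fun s => (secOfH_HpullF s.1 F z).symm)) h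

theorem via_sections_bijective [Fact FinFr.PullExact.{u}] (b : X ⟶ Spec (CommRingCat.of K)) [IsFinite b]
    {Z : Scheme.{u}} (π : X ⟶ Z) (G : EtCoh.Ab Z) :
    Function.Bijective fun (z : EtCoh.H X ((EtCoh.pull π).obj G) 0)
      (s : {s : Spec (CommRingCat.of K) ⟶ X // s ≫ b = 𝟙 _}) => via s.1 π (s.1 ≫ π) rfl G 0 z := by
  have h1 := HpullF_sections_bijective b ((EtCoh.pull π).obj G)
  have h2 : ∀ s : {s : Spec (CommRingCat.of K) ⟶ X // s ≫ b = 𝟙 _},
      Function.Bijective fun z : EtCoh.H (Spec (CommRingCat.of K)) ((EtCoh.pull s.1).obj ((EtCoh.pull π).obj G)) 0 =>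
        Sheaf.H.map ((viaIso s.1 π (s.1 ≫ π) rfl).hom.app G) 0 z := fun s =>
    ((EtCoh.HF (Spec (CommRingCat.of K)) 0).mapIso
      ((viaIso s.1 π (s.1 ≫ π) rfl).app G)).addCommGroupIsoToAddEquiv.bijective
  exact (Function.Bijective.piMap h2).comp h1

theorem finite_H_pullback_point {Λ : Type} [CommRing Λ] [Finite Λ] {X₀ : Scheme.{u}} [IsLocallyNoetherian X₀]
    [CompactSpace X₀] (L : EtLam.Sheaf Λ X₀) (hL : EtLam.IsConstructible L)
    (y : Spec (CommRingCat.of K) ⟶ X₀) :
    Finite (EtCoh.H (Spec (CommRingCat.of K)) (EtLam.pullback y L).carrier 0) := by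
  have hc : EtPBC.IsConstructible L.carrier := fun U hU => by
    obtain ⟨n, T, g, hg, hc, hd, hu, hL⟩ := hL U hU
    refine ⟨n, T, g, hg, hc, hd, hu, fun i _ => ?_⟩
    obtain ⟨ι, V, hV, h⟩ := @hL i inferInstance
    refine ⟨ι, V, hV, fun j => ?_⟩
    obtain ⟨M, _, _, _, e, -⟩ := h j
    exact ⟨M, inferInstance, Module.finite_of_finite Λ, ⟨e⟩⟩
  have h1 : Finite ((EtCoh.stalk (𝟙 _ ≫ y)).obj L.carrier) := EtFound.finite_stalk_of_isConstructible hc _
  have h2 : Finite ((EtCoh.stalk (𝟙 (Spec (CommRingCat.of K)))).obj ((EtCoh.pull y).obj L.carrier)) :=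
    Finite.of_equiv _ ((EtFound.sheafFiberPullIso y (𝟙 _)).app L.carrier).symm.addCommGroupIsoToAddEquiv.toEquiv
  have h3 : Finite ((EtCore.gsec (Spec (CommRingCat.of K))).obj ((EtCoh.pull y).obj L.carrier)) :=
    @Finite.of_injective _ _ h2 _
      ((EtFound.sectTopIso K AddCommGrpCat.{u + 1}).app
        ((EtCoh.pull y).obj L.carrier)).addCommGroupIsoToAddEquiv.injective
  exact @Finite.of_injective _ _ h3 _ (secOfH_bijective ((EtCoh.pull y).obj L.carrier)).1

end Groth.Agent.SGA4hFrob
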