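import Groth.Agent.SGA4hFrob.ConstPull
import Groth.Agent.FrobSchLib.Basic
import Groth.Agent.EtFound.TopInv

/-!
# The absolute Frobenius acts trivially on the etale site and on etale cohomology
-/

set_option autoImplicit false

universe u

open CategoryTheory CategoryTheory.Limits AlgebraicGeometry Opposite

namespace Groth.Agent.SGA4hFrob

set_option backward.isDefEq.respectTransparency.types false

variable (p : ℕ) [Fact p.Prime]

theorem isIso_relFrob {U X : Scheme.{u}} [FrobSch.IsCharP X p] (g : U ⟶ X) [Etale g] :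
    IsIso (FrobSch.relFrob g p) := by
  have : Etale (pullback.snd g (FrobSch.frob X p)) :=
    MorphismProperty.pullback_snd (P := EtCoh.etaleMP) g (FrobSch.frob X p) ‹Etale g›
  have : Etale (FrobSch.relFrob g p ≫ pullback.snd g (FrobSch.frob X p)) := by
    rw [FrobSch.relFrob_snd]; infer_instance
  have : Etale (FrobSch.relFrob g p) :=
    Etale.of_comp (FrobSch.relFrob g p) (pullback.snd g (FrobSch.frob X p))
  have := FrobSchLib.universallyInjective_relFrob p g
  have := EtFound.isOpenImmersion_of_etale_univInj (FrobSch.relFrob g p)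
  have : FrobSch.IsCharP U p := FrobSch.IsCharP.of_hom g p
  have := FrobSchLib.universallyInjective_frob p X
  have : UniversallyInjective (pullback.fst g (FrobSch.frob X p)) :=
    MorphismProperty.pullback_fst _ _ inferInstance
  have : Surjective (FrobSch.relFrob g p) := ⟨fun z => ⟨pullback.fst g (FrobSch.frob X p) z,
    (pullback.fst g (FrobSch.frob X p)).injective (by
      rw [← Scheme.Hom.comp_apply, FrobSch.relFrob_fst]; rfl)⟩⟩
  exact (isIso_iff_isOpenImmersion_and_surjective _).2 ⟨inferInstance, inferInstance⟩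

variable (X : Scheme.{u}) [FrobSch.IsCharP X p]

/-- the structure map of an object of the etale site -/
abbrev str {X : Scheme.{u}} (U : X.Etale) : U.left ⟶ X := U.hom

/-- the relative Frobenius of an etale scheme over `X`, as a map to its base change -/
noncomputable def rF (U : X.Etale) : U.left ⟶ ((EtCoh.bc (FrobSch.frob X p)).obj U).left :=
  FrobSch.relFrob (str U) p

instance rF_isIso (U : X.Etale) : IsIso (rF p X U) :=
  haveI : AlgebraicGeometry.Etale (str U) := U.prop
  isIso_relFrob p (str U)

theorem rF_snd (U : X.Etale) : rF p X U ≫ str ((EtCoh.bc (FrobSch.frob X p)).obj U) = str U :=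
  FrobSch.relFrob_snd (str U) p

theorem rF_natural {U V : X.Etale} (g : U ⟶ V) :
    g.left ≫ rF p X V = rF p X U ≫ ((EtCoh.bc (FrobSch.frob X p)).map g).left := by
  haveI : FrobSch.IsCharP U.left p := FrobSch.IsCharP.of_hom (str U) p
  haveI : FrobSch.IsCharP V.left p := FrobSch.IsCharP.of_hom (str V) p
  have e : g.left ≫ str V = str U := Over.w g.hom
  have e' : ((EtCoh.bc (FrobSch.frob X p)).map g).left ≫ pullback.snd (str V) (FrobSch.frob X p) =
      pullback.snd (str U) (FrobSch.frob X p) := Over.w ((EtCoh.bc (FrobSch.frob X p)).map g).hom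
  have f' : ((EtCoh.bc (FrobSch.frob X p)).map g).left ≫ pullback.fst (str V) (FrobSch.frob X p) =
      pullback.fst (str U) (FrobSch.frob X p) ≫ g.left := (EtCoh.isPullback_bc_map (FrobSch.frob X p) g).w
  refine pullback.hom_ext (f := str V) (g := FrobSch.frob X p) ?_ ?_
  · change (g.left ≫ FrobSch.relFrob (str V) p) ≫ _ = (FrobSch.relFrob (str U) p ≫ _) ≫ _
    refine (Category.assoc _ _ _).trans ?_
    refine Eq.trans ?_ (Category.assoc _ _ _).symm
    refine (congrArg (g.left ≫ ·) (FrobSch.relFrob_fst (str V) p)).trans ?_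
    refine Eq.trans ?_ (congrArg (FrobSch.relFrob (str U) p ≫ ·) f').symm
    refine (FrobSch.frob_comp p g.left).symm.trans ?_
    exact ((Category.assoc _ _ _).symm.trans (congrArg (· ≫ g.left) (FrobSch.relFrob_fst (str U) p))).symm
  · change (g.left ≫ FrobSch.relFrob (str V) p) ≫ _ = (FrobSch.relFrob (str U) p ≫ _) ≫ _
    refine ((Category.assoc _ _ _).trans (congrArg (g.left ≫ ·) (FrobSch.relFrob_snd (str V) p))).trans ?_
    exact e.trans (((Category.assoc _ _ _).trans
      (congrArg (FrobSch.relFrob (str U) p ≫ ·) e')).trans (FrobSch.relFrob_snd (str U) p)).symm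

/-- base change along the absolute Frobenius is isomorphic to the identity on the etale site -/
noncomputable def bcFrobIso : EtCoh.bc (FrobSch.frob X p) ≅ 𝟭 X.Etale :=
  (NatIso.ofComponents (fun U => MorphismProperty.Over.isoMk (asIso (rF p X U)) (rF_snd p X U))
    (fun {U V} g => MorphismProperty.Over.Hom.ext (rF_natural p X g))).symm

/-- the `m`-th iterate of the absolute Frobenius -/
noncomputable def frobPow : ℕ → (X ⟶ X)
  | 0 => 𝟙 X
  | m + 1 => frobPow m ≫ FrobSch.frob X p

theorem frobPow_comp {Y : Scheme.{u}} [FrobSch.IsCharP Y p] (f : X ⟶ Y) (m : ℕ) :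
    frobPow p X m ≫ f = f ≫ frobPow p Y m := by
  induction m with
  | zero => simp [frobPow]
  | succ m ih => rw [frobPow, frobPow, Category.assoc, FrobSch.frob_comp, reassoc_of% ih]

theorem frobPow_appTop (m : ℕ) (s : Γ(X, ⊤)) : (frobPow p X m).appTop s = s ^ p ^ m := by
  induction m generalizing s with
  | zero => simp [frobPow]
  | succ m ih =>
    rw [frobPow, Scheme.Hom.comp_appTop, CommRingCat.comp_apply, FrobSch.frob_appTop, ih, ← pow_mul,
      pow_succ']

theorem hConst_frobPow [Fact FinFr.PullExact.{u}] (M : Type) [AddCommGroup M] (m n : ℕ)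
    (x : EtCoh.H X (EtCoh.const X M) n) : hConst M (frobPow p X m) n x = x := by
  induction m with
  | zero =>
    have h := hConst_comp M (𝟙 X) (FrobSch.frob X p) (FrobSch.frob X p) (Category.id_comp _) n x
    rw [hConst_eq_id M _ (bcFrobIso p X)] at h
    exact h.symm
  | succ m ih =>
    rw [hConst_comp M (frobPow p X m) (FrobSch.frob X p) (frobPow p X (m + 1)) rfl, hConst_eq_id M _ (bcFrobIso p X), ih]

end Groth.Agent.SGA4hFrob
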