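import Groth.Agent.SGA4hFrob.Via

/-!
# Relative pullback maps of sheaves of modules
-/

set_option autoImplicit false

universe u

open CategoryTheory CategoryTheory.Limits AlgebraicGeometry Opposite CategoryTheory.Abelian

namespace Groth.Agent.SGA4hFrob

set_option backward.isDefEq.respectTransparency.types false

variable [Fact FinFr.PullExact.{u}] {W X Y Z Z' : Scheme.{u}}

section Linear

variable {Λ : Type} [CommRing Λ]

/-- the relative pullback of a sheaf of modules, linearly -/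
noncomputable def viaLin (f : X ⟶ Y) (t : Y ⟶ Z) (f₀ : X ⟶ Z) (w : f ≫ t = f₀) (L : EtLam.Sheaf Λ Z) (n : ℕ) :
    EtCoh.H Y (EtLam.pullback t L).carrier n →ₗ[Λ] EtCoh.H X (EtLam.pullback f₀ L).carrier n where
  toFun z := via f t f₀ w L.carrier n z
  map_add' := map_add _
  map_smul' r z := via_natural f t f₀ w (L.act r) n z

theorem viaLin_apply (f : X ⟶ Y) (t : Y ⟶ Z) (f₀ : X ⟶ Z) (w : f ≫ t = f₀) (L : EtLam.Sheaf Λ Z) (n : ℕ)
    (z : EtCoh.H Y (EtLam.pullback t L).carrier n) :
    viaLin f t f₀ w L n z = via f t f₀ w L.carrier n z := rfl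

/-- the identification of an iterated pullback, linearly -/
noncomputable def targetLin (t : Y ⟶ Z) (x : Z ⟶ Z') (t' : Y ⟶ Z') (ht : t ≫ x = t') (L : EtLam.Sheaf Λ Z')
    (n : ℕ) : EtCoh.H Y (EtLam.pullback t (EtLam.pullback x L)).carrier n →ₗ[Λ]
      EtCoh.H Y (EtLam.pullback t' L).carrier n where
  toFun z := Sheaf.H.map ((viaIso t x t' ht).hom.app L.carrier) n z
  map_add' := map_add _
  map_smul' r z := by
    change Sheaf.H.map _ n (Sheaf.H.map ((EtCoh.pull t).map ((EtCoh.pull x).map (L.act r))) n z) =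
      Sheaf.H.map ((EtCoh.pull t').map (L.act r)) n
        (Sheaf.H.map ((viaIso t x t' ht).hom.app L.carrier) n z)
    rw [← Sheaf.H.map_comp_apply, ← Sheaf.H.map_comp_apply]
    exact congrArg (fun m => Sheaf.H.map m n z) ((viaIso t x t' ht).hom.naturality (L.act r))

theorem targetLin_bijective (t : Y ⟶ Z) (x : Z ⟶ Z') (t' : Y ⟶ Z') (ht : t ≫ x = t') (L : EtLam.Sheaf Λ Z')
    (n : ℕ) : Function.Bijective (targetLin t x t' ht L n) :=
  ((EtCoh.HF Y n).mapIso ((viaIso t x t' ht).app L.carrier)).addCommGroupIsoToAddEquiv.bijective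

theorem galLin_eq_viaLin {k : Type u} [Field k] {K : Type u} [Field K] [Algebra k K]
    (a : X ⟶ Spec (CommRingCat.of k)) (σ : K ≃ₐ[k] K) (L : EtLam.Sheaf Λ X) (n : ℕ) :
    FinFr.galLin a σ L n =
      viaLin (FinFr.galAct a σ) (FinFr.extπ K a) (FinFr.extπ K a) (FinFr.galAct_fst a σ) L n := rfl

end Linear

end Groth.Agent.SGA4hFrob
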