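import Groth.Prelude.Def_EtCore
import Groth.Agent.EtBCLib.Site
import Groth.Agent.EtMVLib.PullSec

/-!
# Associativity of the composition isomorphisms of inverse images, and pullback of sections
-/

set_option autoImplicit false

universe u

open CategoryTheory CategoryTheory.Limits AlgebraicGeometry Opposite

namespace Groth.Agent.SGA4hFrob

set_option backward.isDefEq.respectTransparency.types false

variable {W X Y Z : Scheme.{u}}

/-- the comparison `f⁻¹ t⁻¹ ≅ f₀⁻¹` -/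
noncomputable abbrev viaIso (f : X ⟶ Y) (t : Y ⟶ Z) (f₀ : X ⟶ Z) (w : f ≫ t = f₀) :
    EtCoh.pull t ⋙ EtCoh.pull f ≅ EtCoh.pull f₀ :=
  (EtCore.pullComp f t).symm ≪≫ EtCore.pullCongr w

theorem pushComp_assoc (k : W ⟶ X) (f : X ⟶ Y) (t : Y ⟶ Z) (G : EtCoh.Ab W) :
    (EtCoh.push t).map ((EtCoh.pushComp f k).hom.app G) ≫ (EtCoh.pushComp t (k ≫ f)).hom.app G ≫
        (EtCoh.pushCongr (Category.assoc k f t)).hom.app G =
      (EtCoh.pushComp t f).hom.app ((EtCoh.push k).obj G) ≫ (EtCoh.pushComp (f ≫ t) k).hom.app G := by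
  refine Sheaf.hom_ext (NatTrans.ext (funext fun ⟨U⟩ => ?_))
  change G.obj.map (EtBCLib.compC k f ((EtCoh.bc t).obj U)).op ≫
      G.obj.map (EtBCLib.compC (k ≫ f) t U).op ≫
        G.obj.map ((MorphismProperty.Over.pullbackCongr (P := EtCoh.etaleMP) (Q := ⊤) (Category.assoc k f t)).inv.app U).op =
    G.obj.map ((EtCoh.bc k).map (EtBCLib.compC f t U)).op ≫ G.obj.map (EtBCLib.compC k (f ≫ t) U).op
  simp only [← Functor.map_comp, ← op_comp]
  refine congrArg (fun m => G.obj.map (Quiver.Hom.op m)) ?_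
  refine EtBCLib.etale_ext3 _ _ ?_
  have a1 := EtBCLib.compC_fst k f ((EtCoh.bc t).obj U)
  have a2 := EtBCLib.compC_fst (k ≫ f) t U
  have a3 := EtBCLib.congr_fst (Category.assoc k f t) U
  have a4 := EtBCLib.map_fst k (EtBCLib.compC f t U)
  have a5 := EtBCLib.compC_fst f t U
  have a6 := EtBCLib.compC_fst k (f ≫ t) U
  simp only [EtBCLib.comp_left, Category.assoc, unop_comp, Quiver.Hom.unop_op] at *
  rw [reassoc_of% a1, a2]
  refine a3.trans ?_
  refine Eq.trans ?_ (Category.assoc _ _ _).symm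
  rw [reassoc_of% a4]
  exact (congrArg (_ ≫ ·) ((Category.assoc _ _ _).trans (congrArg (_ ≫ ·) a5))).trans a6 |>.symm

theorem unit_pullComp (f : X ⟶ Y) (t : Y ⟶ Z) (G : EtCoh.Ab Z) :
    (EtCoh.pullPushAdj (f ≫ t)).unit.app G ≫ (EtCoh.push (f ≫ t)).map ((EtCore.pullComp f t).hom.app G) =
      (EtCoh.pullPushAdj t).unit.app G ≫ (EtCoh.push t).map ((EtCoh.pullPushAdj f).unit.app ((EtCoh.pull t).obj G)) ≫
        (EtCoh.pushComp t f).hom.app ((EtCoh.pull f).obj ((EtCoh.pull t).obj G)) :=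
  EtBCLib.unit_compUniq (EtCoh.pullPushAdj t) (EtCoh.pullPushAdj f) (EtCoh.pullPushAdj (f ≫ t))
    (EtCoh.pushComp t f) G

theorem unit_pullCongr {f f' : X ⟶ Y} (h : f = f') (G : EtCoh.Ab Y) :
    (EtCoh.pullPushAdj f').unit.app G ≫ (EtCoh.push f').map ((EtCore.pullCongr h).inv.app G) =
      (EtCoh.pullPushAdj f).unit.app G ≫ (EtCoh.pushCongr h).hom.app ((EtCoh.pull f).obj G) := by
  subst h
  have e : ((EtCoh.pushCongr (rfl : f = f)).hom.app ((EtCoh.pull f).obj G)) = 𝟙 _ := by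
    refine Sheaf.hom_ext (NatTrans.ext (funext fun ⟨U⟩ => ?_))
    change ((EtCoh.pull f).obj G).obj.map (((MorphismProperty.Over.pullbackCongr (P := EtCoh.etaleMP) (Q := ⊤)
      (rfl : f = f))).inv.app U).op = 𝟙 _
    have h0 : ((MorphismProperty.Over.pullbackCongr (P := EtCoh.etaleMP) (Q := ⊤) (rfl : f = f))).inv.app U = 𝟙 _ :=
      EtBCLib.over_pullback_ext _ _ ((EtBCLib.congr_fst rfl U).trans (Category.id_comp _).symm)
    exact (congrArg (fun m => ((EtCoh.pull f).obj G).obj.map (Quiver.Hom.op m)) h0).trans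
      (((EtCoh.pull f).obj G).obj.map_id _)
  rw [e]
  simp [EtCore.pullCongr]

theorem pullComp_assoc (k : W ⟶ X) (f : X ⟶ Y) (t : Y ⟶ Z) (G : EtCoh.Ab Z) :
    (EtCore.pullCongr (Category.assoc k f t)).inv.app G ≫ (EtCore.pullComp (k ≫ f) t).hom.app G ≫
        (EtCore.pullComp k f).hom.app ((EtCoh.pull t).obj G) =
      (EtCore.pullComp k (f ≫ t)).hom.app G ≫ (EtCoh.pull k).map ((EtCore.pullComp f t).hom.app G) := by
  apply ((EtCoh.pullPushAdj (k ≫ f ≫ t)).homEquiv _ _).injective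
  rw [Adjunction.homEquiv_unit, Adjunction.homEquiv_unit]
  simp only [Functor.map_comp, Functor.comp_obj]
  have nC := fun {A B : EtCoh.Ab W} (m : A ⟶ B) =>
    (EtCoh.pushCongr (Category.assoc k f t)).hom.naturality m
  have nK := fun {A B : EtCoh.Ab W} (m : A ⟶ B) => (EtCoh.pushComp t (k ≫ f)).hom.naturality m
  have nF := fun {A B : EtCoh.Ab W} (m : A ⟶ B) => (EtCoh.pushComp (f ≫ t) k).hom.naturality m
  have nT := fun {A B : EtCoh.Ab X} (m : A ⟶ B) => (EtCoh.pushComp t f).hom.naturality m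
  have hk := (EtCoh.pullPushAdj k).unit.naturality ((EtCore.pullComp f t).hom.app G)
  have u1 := unit_pullCongr (Category.assoc k f t) G
  have u2 := unit_pullComp (k ≫ f) t G
  have u3 := unit_pullComp k f ((EtCoh.pull t).obj G)
  have u4 := unit_pullComp k (f ≫ t) G
  have u5 := unit_pullComp f t G
  have pa := pushComp_assoc k f t
  simp only [Functor.comp_map, Functor.id_map, Functor.comp_obj, Functor.id_obj] at nC nK nF nT hk u1 u2 u3 u4 u5
  refine ((reassoc_of% u1) _).trans ?_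
  refine Eq.trans ?_ ((reassoc_of% u4) _).symm
  rw [← reassoc_of% nC, ← nC, reassoc_of% u2, ← reassoc_of% nK, ← Functor.map_comp_assoc, u3,
    Functor.map_comp_assoc, Functor.map_comp_assoc]
  rw [pa, ← nF, ← (EtCoh.push (f ≫ t)).map_comp_assoc, ← hk,
    Functor.map_comp_assoc, reassoc_of% u5, ← reassoc_of% nT]

theorem viaIso_assoc (k : W ⟶ X) (f : X ⟶ Y) (kf : W ⟶ Y) (t : Y ⟶ Z) (f₀ : X ⟶ Z) (k₀ : W ⟶ Z)
    (hkf : k ≫ f = kf) (hf : f ≫ t = f₀) (hk : k ≫ f₀ = k₀) (hall : kf ≫ t = k₀) (G : EtCoh.Ab Z) :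
    (EtCoh.pull k).map ((viaIso f t f₀ hf).hom.app G) ≫ (viaIso k f₀ k₀ hk).hom.app G =
      (viaIso k f kf hkf).hom.app ((EtCoh.pull t).obj G) ≫ (viaIso kf t k₀ hall).hom.app G := by
  subst hkf hf hk
  have h := pullComp_assoc k f t G
  simp only [viaIso, Iso.trans_hom, Iso.symm_hom, NatTrans.comp_app, EtCore.pullCongr, eqToIso.hom,
    eqToIso.inv, eqToHom_refl, NatTrans.id_app, Category.comp_id] at h ⊢
  rw [← cancel_epi ((EtCore.pullComp k (f ≫ t)).hom.app G ≫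
    (EtCoh.pull k).map ((EtCore.pullComp f t).hom.app G))]
  conv_rhs => rw [← h]
  simp only [Category.assoc, ← Functor.map_comp_assoc]
  simp

/-- pullback of sections along `f` over a common target -/
noncomputable def rho (f : X ⟶ Y) (t : Y ⟶ Z) (f₀ : X ⟶ Z) (w : f ≫ t = f₀) (G : EtCoh.Ab Z) :
    (EtCore.gsec Y).obj ((EtCoh.pull t).obj G) ⟶ (EtCore.gsec X).obj ((EtCoh.pull f₀).obj G) :=
  (EtMVLib.pullSec f).app ((EtCoh.pull t).obj G) ≫ (EtCore.gsec X).map ((viaIso f t f₀ w).hom.app G)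

theorem rho_natural (f : X ⟶ Y) (t : Y ⟶ Z) (f₀ : X ⟶ Z) (w : f ≫ t = f₀) {G G' : EtCoh.Ab Z} (a : G ⟶ G') :
    (EtCore.gsec Y).map ((EtCoh.pull t).map a) ≫ rho f t f₀ w G' =
      rho f t f₀ w G ≫ (EtCore.gsec X).map ((EtCoh.pull f₀).map a) := by
  have h1 := (EtMVLib.pullSec f).naturality ((EtCoh.pull t).map a)
  have h2 := (viaIso f t f₀ w).hom.naturality a
  simp only [Functor.comp_map] at h1 h2
  rw [rho, rho, Category.assoc, reassoc_of% h1, ← Functor.map_comp, ← Functor.map_comp, h2]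

theorem rho_comp (k : W ⟶ X) (f : X ⟶ Y) (kf : W ⟶ Y) (t : Y ⟶ Z) (f₀ : X ⟶ Z) (k₀ : W ⟶ Z)
    (hkf : k ≫ f = kf) (hf : f ≫ t = f₀) (hk : k ≫ f₀ = k₀) (hall : kf ≫ t = k₀) (G : EtCoh.Ab Z) :
    rho f t f₀ hf G ≫ rho k f₀ k₀ hk G = rho kf t k₀ hall G := by
  have h1 := (EtMVLib.pullSec k).naturality ((viaIso f t f₀ hf).hom.app G)
  simp only [Functor.comp_map] at h1
  simp only [rho, Category.assoc]
  rw [reassoc_of% h1, ← Functor.map_comp, viaIso_assoc k f kf t f₀ k₀ hkf hf hk hall G, Functor.map_comp]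
  subst hkf
  have h2 := EtMVLib.pullSec_comp k f ((EtCoh.pull t).obj G)
  rw [← reassoc_of% h2, ← Functor.map_comp, ← Functor.map_comp]
  congr 2
  simp [viaIso, EtCore.pullCongr]

end Groth.Agent.SGA4hFrob
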