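import Groth.Agent.SGA4hFrob.ConstPull
import Groth.Agent.SGA4hFrob.PullAssoc
import Groth.Agent.S0642
import Mathlib.AlgebraicGeometry.Morphisms.IsIso
import Mathlib.AlgebraicGeometry.Morphisms.Integral

/-!
# Functoriality of relative pullback maps on etale cohomology
-/

set_option autoImplicit false

universe u

open CategoryTheory CategoryTheory.Limits AlgebraicGeometry Opposite CategoryTheory.Abelian

namespace Groth.Agent.SGA4hFrob

set_option backward.isDefEq.respectTransparency.types false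

variable [Fact FinFr.PullExact.{u}] {W X Y Z Z' : Scheme.{u}}

/-- relative pullback, exactness supplied by `PullExact` -/
noncomputable def via (f : X ⟶ Y) (t : Y ⟶ Z) (f₀ : X ⟶ Z) (w : f ≫ t = f₀) (G : EtCoh.Ab Z) (n : ℕ) :
    EtCoh.H Y ((EtCoh.pull t).obj G) n →+ EtCoh.H X ((EtCoh.pull f₀).obj G) n :=
  haveI := FinFr.pullExact_out f
  EtCore.HpullVia f t f₀ w G n

theorem via_apply (f : X ⟶ Y) [PreservesFiniteLimits (EtCoh.pull f)] (t : Y ⟶ Z) (f₀ : X ⟶ Z)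
    (w : f ≫ t = f₀) (G : EtCoh.Ab Z) (n : ℕ) (z : EtCoh.H Y ((EtCoh.pull t).obj G) n) :
    via f t f₀ w G n z =
      ((Ext.mk₀ (EtCore.pullConst f ℤ).inv).comp (z.mapExactFunctor (EtCoh.pull f)) (zero_add n)).comp
        (Ext.mk₀ ((viaIso f t f₀ w).hom.app G)) (add_zero n) := rfl

/-- relative pullbacks compose -/
theorem via_comp (k : W ⟶ X) (f : X ⟶ Y) (kf : W ⟶ Y) (t : Y ⟶ Z) (f₀ : X ⟶ Z) (k₀ : W ⟶ Z)
    (hkf : k ≫ f = kf) (hf : f ≫ t = f₀) (hk : k ≫ f₀ = k₀) (hall : kf ≫ t = k₀) (G : EtCoh.Ab Z) (n : ℕ)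
    (z : EtCoh.H Y ((EtCoh.pull t).obj G) n) :
    via k f₀ k₀ hk G n (via f t f₀ hf G n z) = via kf t k₀ hall G n z := by
  have h1 := FinFr.pullExact_out k
  have h2 := FinFr.pullExact_out f
  have h3 := FinFr.pullExact_out kf
  rw [via_apply, via_apply, via_apply, Ext.mapExactFunctor_comp, Ext.mapExactFunctor_comp,
    Ext.mapExactFunctor_mk₀, Ext.mapExactFunctor_mk₀]
  set θ := viaIso k f kf hkf
  have hθ := EtMVLib.mapExactFunctor_natTrans (EtCoh.pull f ⋙ EtCoh.pull k) (EtCoh.pull kf) θ.hom z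
  rw [EtMVLib.mapExactFunctor_functorComp] at hθ
  simp only [Ext.comp_assoc_of_second_deg_zero, Ext.comp_assoc_of_third_deg_zero, Ext.mk₀_comp_mk₀,
    Ext.mk₀_comp_mk₀_assoc]
  rw [viaIso_assoc k f kf t f₀ k₀ hkf hf hk hall G, ← pullConst_comp k f kf hkf ℤ,
    ← Ext.mk₀_comp_mk₀ _ ((viaIso kf t k₀ hall).hom.app G),
    ← Ext.comp_assoc_of_third_deg_zero ((z.mapExactFunctor (EtCoh.pull f)).mapExactFunctor (EtCoh.pull k)),
    hθ, Ext.comp_assoc_of_third_deg_zero, Ext.mk₀_comp_mk₀_assoc, Category.assoc]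

/-- enlarging the common target -/
theorem via_target (f : X ⟶ Y) (t : Y ⟶ Z) (f₀ : X ⟶ Z) (w : f ≫ t = f₀) (x : Z ⟶ Z') (t' : Y ⟶ Z')
    (f₀' : X ⟶ Z') (ht : t ≫ x = t') (hf : f₀ ≫ x = f₀') (w' : f ≫ t' = f₀') (G : EtCoh.Ab Z') (n : ℕ)
    (z : EtCoh.H Y ((EtCoh.pull t).obj ((EtCoh.pull x).obj G)) n) :
    Sheaf.H.map ((viaIso f₀ x f₀' hf).hom.app G) n (via f t f₀ w ((EtCoh.pull x).obj G) n z) =
      via f t' f₀' w' G n (Sheaf.H.map ((viaIso t x t' ht).hom.app G) n z) := by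
  have h1 := FinFr.pullExact_out f
  rw [via_apply, via_apply, Sheaf.H.map_apply, Sheaf.H.map_apply, Ext.mapExactFunctor_comp,
    Ext.mapExactFunctor_mk₀]
  simp only [Ext.comp_assoc_of_second_deg_zero, Ext.comp_assoc_of_third_deg_zero, Ext.mk₀_comp_mk₀]
  rw [viaIso_assoc f t f₀ x t' f₀' w ht w' hf G]

theorem via_natural (f : X ⟶ Y) (t : Y ⟶ Z) (f₀ : X ⟶ Z) (w : f ≫ t = f₀) {G G' : EtCoh.Ab Z} (φ : G ⟶ G')
    (n : ℕ) (z : EtCoh.H Y ((EtCoh.pull t).obj G) n) :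
    via f t f₀ w G' n (Sheaf.H.map ((EtCoh.pull t).map φ) n z) =
      Sheaf.H.map ((EtCoh.pull f₀).map φ) n (via f t f₀ w G n z) := by
  have h1 := FinFr.pullExact_out f
  exact EtCore.HpullVia_natural f t f₀ w φ n z

theorem via_bijective_of_isIso (f : X ⟶ Y) [IsIso f] (t : Y ⟶ Z) (f₀ : X ⟶ Z) (w : f ≫ t = f₀)
    (G : EtCoh.Ab Z) (n : ℕ) : Function.Bijective (via f t f₀ w G n) := by
  have := FinFr.pullExact_out f
  have h := S0642.result f ((EtCoh.pull t).obj G) n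
  exact (((EtCoh.HF X n).mapIso ((viaIso f t f₀ w).app G)).addCommGroupIsoToAddEquiv.bijective).comp h

end Groth.Agent.SGA4hFrob
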